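import Cfsg.Agent.Lib.CosetTable.Sound
import Cfsg.Agent.Lib.CosetTable.J2LevelC.Data

/-! Generated certificate data for the coset table `J2LevelC`. -/

namespace Cfsg.Agent.Lib.CosetTable.J2LevelC

open Cfsg.Agent.Lib.CosetTable

noncomputable def streams0 : List (ℕ × ℕ) := [(64, 0x6200005a00007800007600007b00000500001700000000000000003400003900003b00003500005b00006300006e00007700000800001600000000000000006f00006a00007100000300001300005200006700007100000300000d00000000000000006500004900006d00000300000800000000000000006500004f00006700000300001000005f00004000002a00005000006700000500001500000000000000004600003000003600005b00006300000500001400000000000000005f00004500005b00000300000b00004300003800003500005b00005d00000500000c00000000000000000000000000004800004f00005300000300001300005500005300005500005100002b00002800001800001a00001800001700001900001b00001900002900002b00005000005400005200005400001300001200005100002800001800001a00002900002a00005000005300000800001100000000000000002d00004700004f00000300000700000000000000004b00004900004b00004600003100002f00002200002400002200001f00002300002500002300002e00003100004700004a00004800004a00001300001200004600002f00002200002400002e00003000004700004900000800001100000000000000000000000000003700002c00004100000300001000003d00002900004100000300000800000000000000003200002200002100001000002000002300003300003900000800000f00001800001400000800001500001900002600003300003900000800000e00003200002500002300003300003900000500000900000000000000002f00003300003500000300000d00000000000000000000000000002c00002a00002d00000300000600002700002900002d00000300000500000000000000002800001800001600001900002900000500000c00000000000000001800001d00002300000300000b00002100001200001000002000002300000500000900000000000000000c00001500001d00000300000a00001c00001600001d00000300000500000000000000001400000a00000800001500001900000500000900000000000000001400000600001500000300000800000000000000000c00000a00000d00000300000700000c00000800000d00000300000600000c00000600000d000003000005000000000000000004000001000004000002000001000003000000000001000002000000000001000000000001000000000001),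
  (25, 0xa50000880000a90000030000130000ab00009d00008100005e0000680000850000a90000ab00009f00007e0000700000850000a60000a200009900007600007b0000a40000a200009900007600006f00006200005a00005b00006300007c00007a00006f00007c00001e0000200000a80000840000710000860000a90000ab00009d0000810000430000380000350000780000960000a30000a500007a00006f00007c0000a400001300001f00009d00007e0000700000850000a900000500000c00000000000000008400007100008600008400008500008700007f00008100004300003800003200002200001e00002400002200002400002200001e00002300003300003900004200005e00008b00009100008f00005a0000780000960000a300001e00001e00007d00006e0000770000960000a300000500001d00000000000000009400009300009b00000300001c00008100005e00008b00009100009b00000500001400007e00007000006900005c00005a00003400003a00004200005e00005c00006300006e00007700009600009400008d00009000008d00009b00001300001b00000000000000007900005b00008e00009000009500000500001400007600006c00004b00004900004c00004b00004a00004c00004b00004600002f00002200002100001000000e00001200001000001200001000000e00001000002000002300002e00003000003600005b00008e00009000009500001e00001a00000000000000008f00006100008b00000300001000008f00005a00003700003100003600005b00006100008b00000800001900005d00008b00008d00000300000d00000000000000000000000000007d00006a00008500000300000b00007f00008100005e00006800008500000500001800000000000000007600007400007f00000300000b00004300003800003a00004200005e00006800007100007f000008000016)]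

theorem run0 : cert.goStreams streams0 0 = true := by decide +kernel

theorem part1 (h : cert.Upto 0) : cert.Upto 89 :=
  (h).step (b := 89) run0 rfl

end Cfsg.Agent.Lib.CosetTable.J2LevelC
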